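import Groth.Agent.Lib.Unram.StalkTower
import Groth.Agent.Lib.AlgSpMor.LocP
import Groth.Agent.Lib.AlgSpace.Points
import Groth.Prelude.Def_AlgSpMor5

/-!
# Flatness at a point of a morphism of algebraic spaces
-/

universe u

open CategoryTheory CategoryTheory.Limits AlgebraicGeometry Opposite
open Groth.Agent.Lib

namespace Groth.Agent.Lib.AlgSpThick.FlatAt

theorem flat_stalkMap_comp {X Y Z : Scheme.{u}} (f : X ⟶ Y) (g : Y ⟶ Z) (x : X)
    (hf : (f.stalkMap x).hom.Flat) (hg : (g.stalkMap (f x)).hom.Flat) :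
    ((f ≫ g).stalkMap x).hom.Flat := by
  rw [Scheme.Hom.stalkMap_comp]
  exact RingHom.Flat.comp (f := (g.stalkMap (f x)).hom) (g := (f.stalkMap x).hom) hg hf

theorem flat_stalkMap_cancel {X Y Z : Scheme.{u}} (f : X ⟶ Y) (g : Y ⟶ Z) [Etale g] (x : X)
    (h : ((f ≫ g).stalkMap x).hom.Flat) : (f.stalkMap x).hom.Flat :=
  Unram.StalkTower.flat_stalkMap_of_unramified f g x (FormallyUnramified.stalkMap g (f x)) h

open AlgSp Groth.Agent.Lib.AlgSpace

variable {S : Scheme.{u}} {X Y : Sp S} {f : X ⟶ Y}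

/-- Flatness at a point can be checked in one chart diagram. -/
theorem isFlatAtMor_of_chart (hX : Representable (Limits.diag X))
    (hY : Representable (Limits.diag Y)) {U V : Over S} {a : (yon S).obj U ⟶ X}
    {b : (yon S).obj V ⟶ Y} {h : U ⟶ V} (ha : RepWith @Etale a) (hb : RepWith @Etale b)
    (w : a ≫ f = (yon S).map h ≫ b) (u : ↥U.left) (hu : (h.left.stalkMap u).hom.Flat) :
    IsFlatAtMor f (Points.ofPt a u) := by
  intro U' V' a' b' h' u' ha' hb' w' he
  obtain ⟨U'', p, q, sq⟩ := exists_isPullback_yon hX a a'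
  obtain ⟨W, r, r', sqW⟩ := exists_isPullback_yon hY b b'
  have : Etale p.left := repWith_property ha' sq.flip
  have : Etale q.left := repWith_property ha sq
  have : Etale r.left := repWith_property hb' sqW.flip
  have : Etale r'.left := repWith_property hb sqW
  obtain ⟨k, hk⟩ := (yon S).map_surjective (sqW.lift ((yon S).map (p ≫ h)) ((yon S).map (q ≫ h'))
    (by rw [Functor.map_comp, Functor.map_comp, Category.assoc, Category.assoc, ← w, ← w',
      reassoc_of% sq.w]))
  have k1 : k ≫ r = p ≫ h := (yon S).map_injective (by rw [Functor.map_comp, hk, sqW.lift_fst])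
  have k2 : k ≫ r' = q ≫ h' := (yon S).map_injective (by rw [Functor.map_comp, hk, sqW.lift_snd])
  obtain ⟨z, rfl, rfl⟩ := (ofPt_eq_ofPt_iff_of_isPullback sq u u').1 he.symm
  have h1 : ((k.left ≫ r.left).stalkMap z).hom.Flat := by
    rw [← Over.comp_left, k1, Over.comp_left]
    exact flat_stalkMap_comp _ _ z (Flat.stalkMap p.left z) hu
  have h2 : ((q.left ≫ h'.left).stalkMap z).hom.Flat := by
    rw [← Over.comp_left, ← k2, Over.comp_left]
    exact flat_stalkMap_comp _ _ z (flat_stalkMap_cancel _ _ z h1) (Flat.stalkMap r'.left _)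
  exact Flat55.FlatDescend.flat_stalkMap_of_comp q.left h'.left z (Flat.stalkMap q.left z) h2

end Groth.Agent.Lib.AlgSpThick.FlatAt
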