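import Groth.Agent.Lib.Cyc.LocalDim
import Groth.Agent.Lib.VarDim.Semicont
import Groth.Agent.Lib.AlgSpDecent.Specialize
import Groth.Agent.Lib.AlgSpMor.LocP
import Groth.Agent.Lib.AlgSpace.Points
import Groth.Agent.H54.GeomLift
import Groth.Prelude.Def_AlgSpDec

/-!
# The local fibre dimension is etale local on the source and the target
-/

universe u

open CategoryTheory CategoryTheory.Limits AlgebraicGeometry Opposite
open Groth.Agent.Lib.Cyc Groth.Agent.Lib.AlgSpDecent

namespace Groth.Agent.Lib.AlgSpThick.FibreDim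

theorem trdegAt_eq_zero {A B : Scheme.{u}} (e : A ⟶ B) [Etale e] (a : A) :
    Residue.trdegAt e a = 0 := by
  have := SourceDescent.Scheme.locallyQuasiFinite_of_etale e
  exact Residue.trdegAt_eq_zero_of_finite a (Groth.Agent.H54.GeomLift.residueFieldMap_finite e a)

theorem eq_of_le_iff {a b : WithBot ℕ∞} {m n : ℕ} (ha : a = m) (hb : b = n)
    (h : ∀ k : ℕ, a ≤ k ↔ b ≤ k) : a = b :=
  le_antisymm (hb ▸ (h n).2 hb.le) (ha ▸ (h m).1 ha.le)

theorem fibreDimAt_precomp {X X' Y : Scheme.{u}} (e : X' ⟶ X) [Etale e] (f : X ⟶ Y)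
    [LocallyOfFiniteType f] (x : X') :
    FlatMor.fibreDimAt (e ≫ f) x = FlatMor.fibreDimAt f (e x) := by
  obtain ⟨m, hm⟩ := FibreDim.Chart.exists_fibreDimAt_eq (e ≫ f) x
  obtain ⟨n, hn⟩ := FibreDim.Chart.exists_fibreDimAt_eq f (e x)
  refine eq_of_le_iff hm hn fun k => ?_
  rw [LocalDim.fibreDimAt_le_iff, LocalDim.fibreDimAt_le_iff]
  constructor
  · intro h η hη hs
    obtain ⟨ξ, hξ, rfl⟩ := Specialize.exists_generization e hs
    have := h ξ (by rw [Scheme.Hom.comp_apply, hη, ← Scheme.Hom.comp_apply]) hξ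
    rwa [Residue.trdegAt_comp, trdegAt_eq_zero e ξ, add_zero] at this
  · intro h ξ hξ hs
    rw [Residue.trdegAt_comp, trdegAt_eq_zero e ξ, add_zero]
    exact h (e ξ) hξ (hs.map e.continuous)

theorem fibreDimAt_postcomp {X Y Y' : Scheme.{u}} (f : X ⟶ Y) [LocallyOfFiniteType f]
    (g : Y ⟶ Y') [Etale g] (x : X) :
    FlatMor.fibreDimAt (f ≫ g) x = FlatMor.fibreDimAt f x := by
  obtain ⟨m, hm⟩ := FibreDim.Chart.exists_fibreDimAt_eq (f ≫ g) x
  obtain ⟨n, hn⟩ := FibreDim.Chart.exists_fibreDimAt_eq f x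
  refine eq_of_le_iff hm hn fun k => ?_
  rw [LocalDim.fibreDimAt_le_iff, LocalDim.fibreDimAt_le_iff]
  constructor
  · intro h ξ hξ hs
    have := h ξ (by rw [Scheme.Hom.comp_apply, hξ, ← Scheme.Hom.comp_apply]) hs
    rwa [Residue.trdegAt_comp, trdegAt_eq_zero g (f ξ), zero_add] at this
  · intro h ξ hξ hs
    rw [Residue.trdegAt_comp, trdegAt_eq_zero g (f ξ), zero_add]
    exact h ξ (Specialize.eq_of_specializes_of_etale g (hs.map f.continuous) hξ) hs

open AlgSp Groth.Agent.Lib.AlgSpace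

variable {S : Scheme.{u}} {X Y : Sp S} {f : X ⟶ Y}

/-- Two chart diagrams through the same point have the same fibre dimension there. -/
theorem fibreDimAt_eq_of_charts (hX : Representable (Limits.diag X))
    (hY : Representable (Limits.diag Y)) (hf : LocP @LocallyOfFiniteType f)
    {U V U' V' : Over S} {a : (yon S).obj U ⟶ X} {b : (yon S).obj V ⟶ Y} {h : U ⟶ V}
    {a' : (yon S).obj U' ⟶ X} {b' : (yon S).obj V' ⟶ Y} {h' : U' ⟶ V'}
    (ha : RepWith @Etale a) (hb : RepWith @Etale b) (w : a ≫ f = (yon S).map h ≫ b)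
    (ha' : RepWith @Etale a') (hb' : RepWith @Etale b') (w' : a' ≫ f = (yon S).map h' ≫ b')
    {u : ↥U.left} {u' : ↥U'.left} (hu : Points.ofPt a u = Points.ofPt a' u') :
    FlatMor.fibreDimAt h.left u = FlatMor.fibreDimAt h'.left u' := by
  obtain ⟨U'', p, q, sq⟩ := exists_isPullback_yon hX a a'
  obtain ⟨W, r, r', sqW⟩ := exists_isPullback_yon hY b b'
  have : Etale p.left := repWith_property ha' sq.flip
  have : Etale q.left := repWith_property ha sq
  have : Etale r.left := repWith_property hb' sqW.flip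
  have : Etale r'.left := repWith_property hb sqW
  have hlh : LocallyOfFiniteType h.left := hf a b h ha hb w
  have hlh' : LocallyOfFiniteType h'.left := hf a' b' h' ha' hb' w'
  obtain ⟨k, hk⟩ := (yon S).map_surjective (sqW.lift ((yon S).map (p ≫ h)) ((yon S).map (q ≫ h'))
    (by rw [Functor.map_comp, Functor.map_comp, Category.assoc, Category.assoc, ← w, ← w',
      reassoc_of% sq.w]))
  have k1 : k ≫ r = p ≫ h := (yon S).map_injective (by rw [Functor.map_comp, hk, sqW.lift_fst])
  have k2 : k ≫ r' = q ≫ h' := (yon S).map_injective (by rw [Functor.map_comp, hk, sqW.lift_snd])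
  obtain ⟨z, rfl, rfl⟩ := (ofPt_eq_ofPt_iff_of_isPullback sq u u').1 hu
  have : LocallyOfFiniteType k.left := by
    have : LocallyOfFiniteType (k.left ≫ r.left) := by
      rw [← Over.comp_left, k1, Over.comp_left]
      infer_instance
    exact locallyOfFiniteType_of_comp k.left r.left
  calc FlatMor.fibreDimAt h.left (p.left z)
      = FlatMor.fibreDimAt (p.left ≫ h.left) z := (fibreDimAt_precomp _ _ _).symm
    _ = FlatMor.fibreDimAt (k.left ≫ r.left) z := by rw [← Over.comp_left, ← k1, Over.comp_left]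
    _ = FlatMor.fibreDimAt k.left z := fibreDimAt_postcomp _ _ _
    _ = FlatMor.fibreDimAt (k.left ≫ r'.left) z := (fibreDimAt_postcomp _ _ _).symm
    _ = FlatMor.fibreDimAt (q.left ≫ h'.left) z := by rw [← Over.comp_left, k2, Over.comp_left]
    _ = FlatMor.fibreDimAt h'.left (q.left z) := fibreDimAt_precomp _ _ _

/-- Relative dimension `d` at a point can be read off any chart diagram through it. -/
theorem hasAtMor_fibreDim_iff (hX : Representable (Limits.diag X))
    (hY : Representable (Limits.diag Y)) (hf : LocP @LocallyOfFiniteType f) (d : WithBot ℕ∞)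
    {U V : Over S} {a : (yon S).obj U ⟶ X} {b : (yon S).obj V ⟶ Y} {h : U ⟶ V}
    (ha : RepWith @Etale a) (hb : RepWith @Etale b) (w : a ≫ f = (yon S).map h ≫ b)
    (u : ↥U.left) :
    HasAtMor (fun _ _ g v => FlatMor.fibreDimAt g v = d) f (Points.ofPt a u) ↔
      FlatMor.fibreDimAt h.left u = d := by
  refine ⟨?_, fun hd => ⟨U, V, a, b, h, u, ha, hb, w, rfl, hd⟩⟩
  rintro ⟨U', V', a', b', h', u', ha', hb', w', hu, hd⟩
  rw [← hd]
  exact fibreDimAt_eq_of_charts hX hY hf ha hb w ha' hb' w' hu.symm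

end Groth.Agent.Lib.AlgSpThick.FibreDim
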