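import Groth.Agent.H54.ThickLocal
import Groth.Agent.H2.FibreDimPullback
import Groth.Agent.Lib.AlgSpThick.FibreDim
import Groth.Agent.Lib.AlgSpace.OpenSub
import Groth.Prelude.Def_AlgSpInf

/-!
# Local properties along cartesian morphisms of thickenings of algebraic spaces
-/

universe u

open CategoryTheory CategoryTheory.Limits AlgebraicGeometry Opposite

namespace Groth.Agent.Lib.AlgSpThick.Cart

section Schemes

open Groth.Agent.H54

variable {A B : Type u} [CommRing A] [CommRing B] [Algebra A B] (I : Ideal A)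

/-- Formal unramifiedness lifts along a nilpotent ideal of the source. -/
theorem formallyUnramified_of_isNilpotent_map
    [Algebra.FormallyUnramified A (B ⧸ I.map (algebraMap A B))]
    (hI : IsNilpotent (I.map (algebraMap A B))) : Algebra.FormallyUnramified A B := by
  rw [Algebra.formallyUnramified_iff]
  set J := I.map (algebraMap A B) with hJ
  have h := ThickAlg.kaehler_eq_smul_top (B := B) I
  have hn : ∀ n : ℕ, (⊤ : Submodule B Ω[B⁄A]) = J ^ n • ⊤ := by
    intro n
    induction n with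
    | zero => simp
    | succ n ih => rw [pow_succ, Submodule.mul_smul, ← h, ← ih]
  obtain ⟨n, hn'⟩ := hI
  have h2 := hn n
  rw [hn', Ideal.zero_eq_bot, Submodule.bot_smul] at h2
  exact (Submodule.subsingleton_iff B).mp (subsingleton_of_bot_eq_top h2.symm)

/-- Finite type lifts along a nilpotent ideal of the source. -/
theorem finiteType_of_isNilpotent_map [Algebra.FiniteType A (B ⧸ I.map (algebraMap A B))]
    (hI : IsNilpotent (I.map (algebraMap A B))) : Algebra.FiniteType A B := by
  classical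
  obtain ⟨s, hs⟩ := (‹Algebra.FiniteType A (B ⧸ I.map (algebraMap A B))›).out
  choose g hg using fun x : B ⧸ I.map (algebraMap A B) => Ideal.Quotient.mk_surjective x
  refine ⟨⟨s.image g, ?_⟩⟩
  let S := Algebra.adjoin A (↑(s.image g) : Set B)
  have hmap : S.map (Ideal.Quotient.mkₐ A (I.map (algebraMap A B))) = ⊤ := by
    rw [AlgHom.map_adjoin, ← hs]
    congr 1
    ext x
    simp [hg]
  have h1 : (⊤ : Submodule A B) ≤ Subalgebra.toSubmodule S ⊔ I • (⊤ : Submodule A B) := by
    intro x _
    have hx : Ideal.Quotient.mkₐ A (I.map (algebraMap A B)) x ∈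
        S.map (Ideal.Quotient.mkₐ A (I.map (algebraMap A B))) := by rw [hmap]; trivial
    obtain ⟨y, hy, hxy⟩ := Subalgebra.mem_map.mp hx
    refine Submodule.mem_sup.mpr ⟨y, hy, x - y, ?_, by abel⟩
    rw [Ideal.smul_top_eq_map]
    exact (Ideal.Quotient.eq (I := I.map (algebraMap A B))).mp (by simpa using hxy.symm)
  have h2 : ∀ n : ℕ, (⊤ : Submodule A B) ≤ Subalgebra.toSubmodule S ⊔ I ^ n • (⊤ : Submodule A B) := by
    intro n
    induction n with
    | zero => rw [pow_zero, Ideal.one_eq_top, Submodule.top_smul]; exact le_sup_right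
    | succ n ih =>
      refine ih.trans (sup_le le_sup_left ?_)
      refine (smul_mono_right _ h1).trans ?_
      rw [Submodule.smul_sup, ← Submodule.mul_smul, ← pow_succ]
      exact sup_le_sup_right Submodule.smul_le_right _
  obtain ⟨n, hn⟩ := hI
  have h4 : I ^ n • (⊤ : Submodule A B) = ⊥ := by
    rw [Ideal.smul_top_eq_map, Ideal.map_pow, hn, Ideal.zero_eq_bot]
    simp
  have h3 := h2 n
  rw [h4, sup_bot_eq] at h3
  exact eq_top_iff.mpr fun x _ => h3 Submodule.mem_top

variable {X X' Y Y' : Scheme.{u}} {iX : X ⟶ X'} {iY : Y ⟶ Y'} {f : X ⟶ Y} {f' : X' ⟶ Y'}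
  (hc : IsPullback iX f f' iY) [IsClosedImmersion iY]
  (hnil : ∀ U : X'.Opens, IsAffineOpen U → IsNilpotent (RingHom.ker (iX.app U).hom))

include hc hnil

theorem locallyOfFiniteType (hf : LocallyOfFiniteType f) : LocallyOfFiniteType f' := by
  refine ⟨fun {V} hV {U} hU hUV => ?_⟩
  let := (f'.appLE V U hUV).hom.toAlgebra
  have := ThickLocal.finiteType_algebra hc hV hU hUV
  refine finiteType_of_isNilpotent_map (RingHom.ker (iY.app V).hom) ?_
  rw [RingHom.algebraMap_toAlgebra, ← (ThickLocal.ker_app_eq_map hc hV hU hUV).2]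
  exact hnil U hU

theorem formallyUnramified (hf : FormallyUnramified f) : FormallyUnramified f' := by
  refine ⟨fun {V} hV {U} hU hUV => ?_⟩
  let := (f'.appLE V U hUV).hom.toAlgebra
  have := ThickLocal.formallyUnramified_algebra hc hV hU hUV
  refine formallyUnramified_of_isNilpotent_map (RingHom.ker (iY.app V).hom) ?_
  rw [RingHom.algebraMap_toAlgebra, ← (ThickLocal.ker_app_eq_map hc hV hU hUV).2]
  exact hnil U hU

end Schemes

open AlgSp Groth.Agent.Lib.AlgSpace

variable {S : Scheme.{u}} {X X' Y Y' : Sp S} {i : X ⟶ X'} {j : Y ⟶ Y'} {f : X ⟶ Y} {f' : X' ⟶ Y'}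

/-- Chart diagrams of `f'` pull back to chart diagrams of `f`. -/
theorem exists_chart_pullback (hcart : IsPullback i f f' j) (hj : IsThickMor j) {U' V' : Over S}
    {a' : (yon S).obj U' ⟶ X'} {b' : (yon S).obj V' ⟶ Y'} {h' : U' ⟶ V'}
    (ha' : RepWith @Etale a') (hb' : RepWith @Etale b') (w' : a' ≫ f' = (yon S).map h' ≫ b') :
    ∃ (U V : Over S) (a : (yon S).obj U ⟶ X) (b : (yon S).obj V ⟶ Y) (h : U ⟶ V) (iU : U ⟶ U')
      (jV : V ⟶ V'), RepWith @Etale a ∧ RepWith @Etale b ∧ a ≫ f = (yon S).map h ≫ b ∧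
      IsPullback iU.left h.left h'.left jV.left ∧ IsClosedImmersion jV.left ∧ Surjective jV.left ∧
      IsPullback a ((yon S).map iU) i a' ∧ (RepWith @Surjective a' → RepWith @Surjective a) := by
  have sqV := hj.1.isPullback b'
  have hthick : thick (hj.1.snd b').left := hj.2 b' _ _ sqV
  let jV := hj.1.snd b'
  have sqU := IsPullback.of_hasPullback h' jV
  have wU : ((yon S).map (pullback.fst h' jV) ≫ a') ≫ f' =
      ((yon S).map (pullback.snd h' jV) ≫ hj.1.fst b') ≫ j := by
    rw [Category.assoc, Category.assoc, w', hj.1.w, ← Functor.map_comp_assoc,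
      ← Functor.map_comp_assoc, sqU.w]
  obtain ⟨a, ha₁, ha₂⟩ : ∃ a, a ≫ i = (yon S).map (pullback.fst h' jV) ≫ a' ∧
      a ≫ f = (yon S).map (pullback.snd h' jV) ≫ hj.1.fst b' :=
    ⟨hcart.lift _ _ wU, hcart.lift_fst _ _ _, hcart.lift_snd _ _ _⟩
  have sqa : IsPullback a ((yon S).map (pullback.fst h' jV)) i a' := by
    have big : IsPullback ((yon S).map (pullback.fst h' jV)) (a ≫ f) (a' ≫ f') j := by
      rw [ha₂, w']
      exact (isPullback_yon sqU).paste_vert sqV.flip
    exact (IsPullback.of_bot big ha₁.symm hcart).flip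
  exact ⟨pullback h' jV, hj.1.pullback b', a, hj.1.fst b', pullback.snd h' jV, pullback.fst h' jV, jV,
    repWith_baseChange sqa.flip ha', repWith_baseChange sqV.flip hb', ha₂,
    sqU.map (Over.forget S), hthick.1, hthick.2, sqa, fun hs => repWith_baseChange sqa.flip hs⟩

/-- A finite order thickening is cut out by nilpotent ideals on affine opens of etale charts. -/
theorem isNilpotent_ker_app (hfo : IsFinThickMor i) {U' U : Over S} {a' : (yon S).obj U' ⟶ X'}
    {a : (yon S).obj U ⟶ X} {iU : U ⟶ U'} (ha' : RepWith @Etale a')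
    (sqa : IsPullback a ((yon S).map iU) i a') (O : U'.left.Opens) (hO : IsAffineOpen O) :
    IsNilpotent (RingHom.ker (iU.left.app O).hom) := by
  obtain ⟨n, hi, hn⟩ := hfo
  have hU : thick iU.left := hi.2 a' _ _ sqa
  have := hU.1
  let OS : Over S := Over.mk (O.ι ≫ U'.hom)
  let o : OS ⟶ U' := Over.homMk O.ι rfl
  let PS : Over S := Over.mk ((iU.left ⁻¹ᵁ O).ι ≫ U.hom)
  let p : PS ⟶ U := Over.homMk (iU.left ⁻¹ᵁ O).ι rfl
  let r : PS ⟶ OS := Over.homMk (iU.left ∣_ O) (by
    change _ ≫ O.ι ≫ U'.hom = _ ≫ U.hom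
    rw [← Category.assoc, morphismRestrict_ι, Category.assoc, Over.w iU])
  have sqr : IsPullback p r iU o :=
    IsPullback.of_map_of_faithful (Over.forget S) (isPullback_morphismRestrict iU.left O).flip
  have : IsAffine OS.left := hO
  have hk := hn ((yon S).map o ≫ a') ((yon S).map p ≫ a) r hO
    (repWith_yon_map_comp (inferInstanceAs (Etale O.ι)) ha')
    ((isPullback_yon sqr).paste_horiz sqa)
  have : IsClosedImmersion r.left := inferInstanceAs (IsClosedImmersion (iU.left ∣_ O))
  have h2 : IsNilpotent (RingHom.ker ((iU.left ∣_ O).app ⊤).hom) :=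
    Groth.Agent.H54.ThickLocal.isNilpotent_ker_app r.left ⟨n + 1, hk⟩ (isAffineOpen_top OS.left)
  rw [morphismRestrict_app] at h2
  have : ∀ W : U'.left.Opens, W = O → IsNilpotent (RingHom.ker (iU.left.app W).hom) →
      IsNilpotent (RingHom.ker (iU.left.app O).hom) := by
    rintro W rfl h; exact h
  refine this _ (Scheme.Opens.ι_image_top O) ?_
  have hh : ∀ {A B C : CommRingCat.{u}} (φ : A ⟶ B) (ψ : B ⟶ C) [IsIso ψ],
      IsNilpotent (RingHom.ker (φ ≫ ψ).hom) → IsNilpotent (RingHom.ker φ.hom) := by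
    intro A B C φ ψ _ h
    rwa [CommRingCat.hom_comp, RingHom.ker_comp_of_injective _
      (ConcreteCategory.bijective_of_isIso ψ).1] at h
  exact @hh _ _ _ _ _ (Functor.map_isIso _ _) h2

/-- A property of charts transfers to the thickened morphism. -/
theorem locP_of_cart {P : MorphismProperty Scheme.{u}} (hcart : IsPullback i f f' j)
    (hj : IsThickMor j) (hf : LocP P f)
    (key : ∀ {U U' V V' : Over S} (iU : U ⟶ U') (jV : V ⟶ V') (h : U ⟶ V) (h' : U' ⟶ V')
      (a : (yon S).obj U ⟶ X) (a' : (yon S).obj U' ⟶ X') (b' : (yon S).obj V' ⟶ Y'),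
      RepWith @Etale a' → RepWith @Etale b' → a' ≫ f' = (yon S).map h' ≫ b' →
      IsPullback a ((yon S).map iU) i a' → IsPullback iU.left h.left h'.left jV.left →
      IsClosedImmersion jV.left → Surjective jV.left → P h.left → P h'.left) :
    LocP P f' := by
  intro U' V' a' b' h' ha' hb' w'
  obtain ⟨U, V, a, b, h, iU, jV, ha, hb, w, sq, hcl, hs, sqa, -⟩ :=
    exists_chart_pullback hcart hj ha' hb' w'
  exact key iU jV h h' a a' b' ha' hb' w' sqa sq hcl hs (hf a b h ha hb w)

theorem locP_lft (hcart : IsPullback i f f' j) (hj : IsThickMor j) (hfo : IsFinThickMor i)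
    (hf : LocP @LocallyOfFiniteType f) : LocP @LocallyOfFiniteType f' :=
  locP_of_cart hcart hj hf fun _ _ _ _ _ _ _ ha' _ _ sqa sq hcl _ h =>
    locallyOfFiniteType sq (isNilpotent_ker_app hfo ha' sqa) h

theorem locP_lqf (hcart : IsPullback i f f' j) (hj : IsThickMor j)
    (hf' : LocP @LocallyOfFiniteType f')
    (hf : LocP ((@LocallyQuasiFinite : MorphismProperty Scheme.{u}) ⊓ @LocallyOfFiniteType) f) :
    LocP ((@LocallyQuasiFinite : MorphismProperty Scheme.{u}) ⊓ @LocallyOfFiniteType) f' :=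
  locP_of_cart hcart hj hf fun iU jV h h' _ a' b' ha' hb' w' _ sq hcl hs hh => by
    have hlft : LocallyOfFiniteType h'.left := hf' a' b' h' ha' hb' w'
    have := hh.2
    have : IsClosedImmersion iU.left := MorphismProperty.of_isPullback sq.flip hcl
    have : Surjective iU.left := MorphismProperty.of_isPullback sq.flip hs
    exact ⟨(Groth.Agent.H54.ThickBasic.locallyQuasiFinite_iff sq.w).1 hh.1, hlft⟩

theorem locP_unramified (hcart : IsPullback i f f' j) (hj : IsThickMor j)
    (hf' : LocP @LocallyOfFiniteType f')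
    (hf : LocP ((@LocallyOfFiniteType : MorphismProperty Scheme.{u}) ⊓ @FormallyUnramified) f) :
    LocP ((@LocallyOfFiniteType : MorphismProperty Scheme.{u}) ⊓ @FormallyUnramified) f' :=
  locP_of_cart hcart hj hf fun _ _ _ h' _ a' b' ha' hb' w' _ sq hcl hs hh => by
    have hlft : LocallyOfFiniteType h'.left := hf' a' b' h' ha' hb' w'
    exact ⟨hlft,
      (Groth.Agent.H54.ThickLocal.formallyUnramified_iff_of_locallyOfFiniteType sq).1 hh.2⟩

/-- Relative dimension along a cartesian morphism of thickenings. -/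
theorem forall_fibreDim_iff (hX : IsAlgSpace X) (hX' : IsAlgSpace X') (hY : IsAlgSpace Y)
    (hY' : IsAlgSpace Y') (hcart : IsPullback i f f' j) (hj : IsThickMor j)
    (hf : LocP @LocallyOfFiniteType f) (hf' : LocP @LocallyOfFiniteType f') (d : WithBot ℕ∞) :
    (∀ x, HasAtMor (fun _ _ g v => FlatMor.fibreDimAt g v = d) f x) ↔
      ∀ x', HasAtMor (fun _ _ g v => FlatMor.fibreDimAt g v = d) f' x' := by
  obtain ⟨U', V', a', b', h', ha', has', hb', -, w'⟩ := AlgSpMor.LocP.exists_chart hX' hY' f'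
  obtain ⟨U, V, a, b, h, iU, jV, ha, hb, w, sq, hcl, hs, sqa, hsur⟩ :=
    exists_chart_pullback hcart hj ha' hb' w'
  have has := hsur has'
  have : Surjective iU.left := MorphismProperty.of_isPullback sq.flip hs
  have hlft : LocallyOfFiniteType h'.left := hf' a' b' h' ha' hb' w'
  have e : ∀ u, FlatMor.fibreDimAt h.left u = FlatMor.fibreDimAt h'.left (iU.left u) :=
    Groth.Agent.H2.FibreDimPullback.fibreDimAt_of_isPullback sq
  constructor
  · intro hd x'
    obtain ⟨u', rfl⟩ := surjective_ofPt has' x'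
    obtain ⟨u, rfl⟩ := iU.left.surjective u'
    rw [FibreDim.hasAtMor_fibreDim_iff hX'.diag hY'.diag hf' d ha' hb' w' (iU.left u), ← e]
    exact (FibreDim.hasAtMor_fibreDim_iff hX.diag hY.diag hf d ha hb w u).1 (hd _)
  · intro hd x
    obtain ⟨u, rfl⟩ := surjective_ofPt has x
    rw [FibreDim.hasAtMor_fibreDim_iff hX.diag hY.diag hf d ha hb w u, e]
    exact (FibreDim.hasAtMor_fibreDim_iff hX'.diag hY'.diag hf' d ha' hb' w' (iU.left u)).1 (hd _)

end Groth.Agent.Lib.AlgSpThick.Cart
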