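import Groth.Agent.H54.Deform
import Groth.Agent.Lib.LocalFlat.SmulTop
import Mathlib.RingTheory.Smooth.Fiber

/-!
# Finite presentation, smoothness and etaleness along flat deformations
-/

universe u

open TensorProduct

namespace Groth.Agent.Lib.AlgSpThick.DeformRing

variable {A B C : Type u} [CommRing A] [CommRing B] [CommRing C]
  [Algebra A B] [Algebra A C] [Algebra B C] [IsScalarTower A B C] [Module.Flat A C]
  (I : Ideal A) (hI : IsNilpotent I)

/-- Rewriting a property of the reduced ring map on the canonical quotients. -/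
theorem quot_hom {Q : ∀ {R S : Type u} [CommRing R] [CommRing S], (R →+* S) → Prop}
    (hQ : RingHom.RespectsIso Q) {B0 C0 : Type u} [CommRing B0] [CommRing C0] (J : Ideal B)
    (qB : B →+* B0) (qC : C →+* C0) (hB : Function.Surjective qB) (hC : Function.Surjective qC)
    (kB : RingHom.ker qB = J) (kC : RingHom.ker qC = J.map (algebraMap B C))
    (g : B0 →+* C0) (hg : Q g) (hcomm : g.comp qB = qC.comp (algebraMap B C)) :
    Q (algebraMap (B ⧸ J) (C ⧸ J.map (algebraMap B C))) := by
  let eB := (Ideal.quotEquivOfEq kB.symm).trans (RingHom.quotientKerEquivOfSurjective hB)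
  let eC := (Ideal.quotEquivOfEq kC.symm).trans (RingHom.quotientKerEquivOfSurjective hC)
  have heq : algebraMap (B ⧸ J) (C ⧸ J.map (algebraMap B C)) =
      eC.symm.toRingHom.comp (g.comp eB.toRingHom) := by
    refine Ideal.Quotient.ringHom_ext (RingHom.ext fun b => eC.injective ?_)
    simp only [RingHom.comp_apply, RingEquiv.toRingHom_eq_coe, RingHom.coe_coe,
      RingEquiv.apply_symm_apply]
    exact (congr($hcomm b)).symm
  rw [heq]
  exact hQ.1 _ eC.symm (hQ.2 _ eB hg)

include hI

/-- Finite presentation lifts along flat deformations. -/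
theorem finitePresentation (J : Ideal B) (hJ : J = I.map (algebraMap A B))
    [Algebra.FinitePresentation (B ⧸ J) (C ⧸ J.map (algebraMap B C))] :
    Algebra.FinitePresentation B C := by
  classical
  have hJn : IsNilpotent J := by
    obtain ⟨m, hm⟩ := hI
    exact ⟨m, by rw [hJ, ← Ideal.map_pow, hm, Ideal.zero_eq_bot, Ideal.map_bot, Ideal.zero_eq_bot]⟩
  have : Algebra.FiniteType B (C ⧸ J.map (algebraMap B C)) :=
    Algebra.FiniteType.trans (inferInstance : Algebra.FiniteType B (B ⧸ J))
      (inferInstance : Algebra.FiniteType (B ⧸ J) _)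
  have : Algebra.FiniteType B C := H54.ThickAlg.finiteType_of_isNilpotent J hJn
  obtain ⟨n, π, hπ⟩ := Algebra.FiniteType.iff_quotient_mvPolynomial''.1 ‹Algebra.FiniteType B C›
  let qB := Ideal.Quotient.mk J
  let qC := Ideal.Quotient.mk (J.map (algebraMap B C))
  let π₀ : MvPolynomial (Fin n) (B ⧸ J) →ₐ[B ⧸ J] C ⧸ J.map (algebraMap B C) :=
    MvPolynomial.aeval fun i => qC (π (MvPolynomial.X i))
  let μ : MvPolynomial (Fin n) B →+* MvPolynomial (Fin n) (B ⧸ J) := MvPolynomial.map qB
  have hμ : Function.Surjective μ := MvPolynomial.map_surjective _ Ideal.Quotient.mk_surjective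
  have hsq : ∀ p, π₀ (μ p) = qC (π p) := by
    have : π₀.toRingHom.comp μ = qC.comp π.toRingHom := by
      refine MvPolynomial.ringHom_ext (fun r => ?_) (fun i => ?_)
      · simp [μ, π₀]
        rfl
      · simp [μ, π₀]
    exact fun p => congr($this p)
  have hπ₀ : Function.Surjective π₀ := fun y => by
    obtain ⟨c, rfl⟩ := Ideal.Quotient.mk_surjective y
    obtain ⟨p, rfl⟩ := hπ c
    exact ⟨μ p, hsq p⟩
  obtain ⟨t, ht⟩ := Algebra.FinitePresentation.ker_fG_of_surjective π₀ hπ₀
  have hμker : RingHom.ker μ = J.map (MvPolynomial.C : B →+* MvPolynomial (Fin n) B) := by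
    rw [MvPolynomial.ker_map, Ideal.mk_ker]
  have hlift : ∀ y ∈ RingHom.ker π₀, ∃ p, π p = 0 ∧ μ p = y := by
    intro y hy
    obtain ⟨p, rfl⟩ := hμ y
    have : π p ∈ (RingHom.ker μ).map π.toRingHom := by
      rw [hμker, Ideal.map_map, show π.toRingHom.comp MvPolynomial.C = algebraMap B C from
        RingHom.ext π.commutes, ← Ideal.Quotient.eq_zero_iff_mem]
      exact (hsq p).symm.trans (RingHom.mem_ker.1 hy)
    obtain ⟨e, he, hpe⟩ := (Ideal.mem_map_iff_of_surjective _ hπ).1 this
    refine ⟨p - e, ?_, ?_⟩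
    · rw [map_sub, sub_eq_zero]
      exact hpe.symm
    · rw [map_sub, RingHom.mem_ker.1 he, sub_zero]
  choose l hl₁ hl₂ using hlift
  let T : Ideal (MvPolynomial (Fin n) B) :=
    Ideal.span (Set.range fun y : (t : Set _) => l y.1 (ht ▸ Ideal.subset_span y.2))
  have hTK : T ≤ RingHom.ker π.toRingHom :=
    Ideal.span_le.2 (by rintro _ ⟨y, rfl⟩; exact hl₁ _ _)
  let IP : Ideal (MvPolynomial (Fin n) B) := I.map (algebraMap A (MvPolynomial (Fin n) B))
  let uA := π.toLinearMap.restrictScalars A
  have hstep : RingHom.ker π.toRingHom ≤ T ⊔ IP * RingHom.ker π.toRingHom := by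
    intro x hx
    have h0 : μ x ∈ Ideal.map μ T := by
      have h1 : μ x ∈ RingHom.ker π₀ := by
        rw [RingHom.mem_ker, hsq, show π x = 0 from hx, map_zero]
      replace h1 := ht.ge h1
      refine Ideal.span_le.2 (fun y hy => ?_) h1
      rw [← hl₂ y (ht ▸ Ideal.subset_span hy)]
      exact Ideal.mem_map_of_mem _ (Ideal.subset_span ⟨⟨y, hy⟩, rfl⟩)
    obtain ⟨y, hy, hxy⟩ := (Ideal.mem_map_iff_of_surjective _ hμ).1 h0
    have hd : x - y ∈ RingHom.ker μ := by rw [RingHom.mem_ker, map_sub, hxy, sub_self]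
    rw [hμker, hJ, Ideal.map_map] at hd
    change x - y ∈ IP at hd
    have hd' : x - y ∈ I • (⊤ : Submodule A (MvPolynomial (Fin n) B)) := by
      rw [Ideal.smul_top_eq_map]
      exact hd
    have hk : uA (x - y) = 0 := by
      change π (x - y) = 0
      rw [map_sub, show π x = 0 from hx, show π y = 0 from hTK hy, sub_zero]
    have h2 := LocalFlat.SmulTop.mem_smul_ker_of_flat (u := uA) hπ I hk hd'
    have h3 : x - y ∈ IP * RingHom.ker π.toRingHom := by
      refine Submodule.smul_induction_on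
        (p := fun w : LinearMap.ker uA => w.1 ∈ IP * RingHom.ker π.toRingHom) h2
        (fun r hr w _ => ?_) (fun a b ha hb => add_mem ha hb)
      change r • w.1 ∈ _
      rw [Algebra.smul_def]
      exact Ideal.mul_mem_mul (Ideal.mem_map_of_mem _ hr) w.2
    exact Submodule.mem_sup.2 ⟨y, hy, x - y, h3, by abel⟩
  have hall : ∀ k : ℕ, RingHom.ker π.toRingHom ≤ T ⊔ IP ^ k * RingHom.ker π.toRingHom := by
    intro k
    induction k with
    | zero => simp
    | succ k ih =>
      refine ih.trans (sup_le le_sup_left ?_)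
      refine (Ideal.mul_mono le_rfl hstep).trans ?_
      rw [Ideal.mul_sup, ← mul_assoc, ← pow_succ]
      exact sup_le_sup_right Ideal.mul_le_right _
  obtain ⟨m, hm⟩ := hI
  have hIP : IP ^ m = ⊥ := by rw [← Ideal.map_pow, hm, Ideal.zero_eq_bot, Ideal.map_bot]
  have hK : RingHom.ker π.toRingHom = T := le_antisymm (by simpa [hIP] using hall m) hTK
  refine Algebra.FinitePresentation.iff.2 ⟨n, RingHom.ker π.toRingHom, Ideal.quotientKerAlgEquivOfSurjective hπ, ?_⟩
  rw [hK]
  exact Submodule.fg_span (Set.finite_range _)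

/-- Smoothness lifts along flat deformations. -/
theorem smooth (J : Ideal B) (hJ : J = I.map (algebraMap A B)) [Module.Flat B C]
    [Algebra.Smooth (B ⧸ J) (C ⧸ J.map (algebraMap B C))] : Algebra.Smooth B C := by
  have := finitePresentation I hI J hJ (C := C)
  refine Algebra.Smooth.of_formallySmooth_fiber fun p _ => ?_
  have hle : J ≤ RingHom.ker (algebraMap B p.ResidueField) := by
    intro x hx
    rw [Ideal.ker_algebraMap_residueField]
    obtain ⟨m, hm⟩ := hI
    have : x ^ m ∈ J ^ m := Ideal.pow_mem_pow hx m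
    rw [hJ, ← Ideal.map_pow, hm, Ideal.zero_eq_bot, Ideal.map_bot, Ideal.mem_bot] at this
    exact Ideal.IsPrime.mem_of_pow_mem ‹p.IsPrime› m (this ▸ p.zero_mem)
  letI : Algebra (B ⧸ J) p.ResidueField := (Ideal.Quotient.lift J (algebraMap B p.ResidueField) hle).toAlgebra
  have : IsScalarTower B (B ⧸ J) p.ResidueField := IsScalarTower.of_algebraMap_eq fun _ => rfl
  have : Algebra.FormallySmooth (B ⧸ J) ((B ⧸ J) ⊗[B] C) :=
    Algebra.FormallySmooth.of_equiv (Algebra.TensorProduct.quotIdealMapEquivQuotTensor C J)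
  exact Algebra.FormallySmooth.of_equiv
    (Algebra.TensorProduct.cancelBaseChange B (B ⧸ J) p.ResidueField p.ResidueField C)

end Groth.Agent.Lib.AlgSpThick.DeformRing
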