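import Groth.Agent.Lib.AlgSpThick.DeformRing
import Mathlib.AlgebraicGeometry.Morphisms.Etale
import Mathlib.AlgebraicGeometry.Morphisms.Smooth

/-!
# Local properties of morphisms along flat deformations of schemes
-/

universe u

open AlgebraicGeometry CategoryTheory Limits TensorProduct Groth.Agent.H54

namespace Groth.Agent.Lib.AlgSpThick.DeformScheme

variable {X X' Y Y' S S' : Scheme.{u}} {iX : X ⟶ X'} {iY : Y ⟶ Y'} {iS : S ⟶ S'}
  {f : X ⟶ Y} {f' : X' ⟶ Y'} {g : Y ⟶ S} {g' : Y' ⟶ S'}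
  (hcX : IsPullback iX (f ≫ g) (f' ≫ g') iS) (hcY : IsPullback iY g g' iS)
  (w : iX ≫ f' = f ≫ iY) [IsClosedImmersion iS] (hnil : IsNilpotent iS.ker) [Flat (f' ≫ g')]

include hcX hcY w hnil

/-- Transfer of a ring-theoretic property along a flat deformation. -/
theorem of_ring {P : MorphismProperty Scheme.{u}}
    {Q : ∀ {R S : Type u} [CommRing R] [CommRing S], (R →+* S) → Prop} [HasRingHomProperty P Q]
    (key : ∀ {A B C : Type u} [CommRing A] [CommRing B] [CommRing C] [Algebra A B] [Algebra A C]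
      [Algebra B C] [IsScalarTower A B C] [Module.Flat A C] (I : Ideal A), IsNilpotent I →
      ∀ J : Ideal B, J = I.map (algebraMap A B) →
        Q (algebraMap (B ⧸ J) (C ⧸ J.map (algebraMap B C))) → Q (algebraMap B C))
    (hQ : RingHom.StableUnderCompositionWithLocalizationAwaySource Q) (hf : P f) : P f' := by
  have : IsClosedImmersion iY := MorphismProperty.of_isPullback hcY.flip ‹IsClosedImmersion iS›
  have : IsClosedImmersion iX := MorphismProperty.of_isPullback hcX.flip ‹IsClosedImmersion iS›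
  have hc := Deform.isPullback hcX hcY w
  refine (HasRingHomProperty.iff_exists_appLE (P := P) hQ).mpr fun x => ?_
  obtain ⟨_, ⟨W, hW, rfl⟩, hxW, -⟩ := S'.isBasis_affineOpens.exists_subset_of_mem_open
    (Set.mem_univ (g' (f' x))) isOpen_univ
  obtain ⟨_, ⟨V, hV, rfl⟩, hxV, hVW⟩ :=
    Y'.isBasis_affineOpens.exists_subset_of_mem_open hxW (g' ⁻¹ᵁ W).isOpen
  obtain ⟨_, ⟨U, hU, rfl⟩, hxU, hUV⟩ :=
    X'.isBasis_affineOpens.exists_subset_of_mem_open hxV (f' ⁻¹ᵁ V).isOpen
  refine ⟨⟨V, hV⟩, ⟨U, hU⟩, hxU, hUV, ?_⟩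
  show Q (f'.appLE V U hUV).hom
  have hA : ((f' ≫ g').appLE W U (fun z hz => hVW (hUV hz))).hom.Flat :=
    (f' ≫ g').flat_appLE hW hU _
  have he : g'.appLE W V hVW ≫ f'.appLE V U hUV =
      (f' ≫ g').appLE W U (fun z hz => hVW (hUV hz)) := Scheme.Hom.appLE_comp_appLE _ _ _ _ _ _ _
  rw [← he, CommRingCat.hom_comp] at hA
  obtain ⟨hsB, hkB⟩ := ThickLocal.ker_app_eq_map hcY hW hV hVW
  obtain ⟨hsC, hkC⟩ := ThickLocal.ker_app_eq_map hc hV hU hUV
  have hle : iX ⁻¹ᵁ U ≤ f ⁻¹ᵁ (iY ⁻¹ᵁ V) := by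
    rw [← Scheme.Hom.comp_preimage, ← w]; exact iX.preimage_mono hUV
  have hq : Q (f.appLE (iY ⁻¹ᵁ V) (iX ⁻¹ᵁ U) hle).hom :=
    HasRingHomProperty.appLE P f hf ⟨_, hV.preimage iY⟩ ⟨_, hU.preimage iX⟩ hle
  have hcomm : iY.app V ≫ f.appLE (iY ⁻¹ᵁ V) (iX ⁻¹ᵁ U) hle = f'.appLE V U hUV ≫ iX.app U := by
    simp only [Scheme.Hom.app_eq_appLE, Scheme.Hom.appLE_comp_appLE, ← w]
  algebraize [(g'.appLE W V hVW).hom, (f'.appLE V U hUV).hom,
    (f'.appLE V U hUV).hom.comp (g'.appLE W V hVW).hom]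
  exact key _ (ThickLocal.isNilpotent_ker_app iS hnil hW) _ hkB
    (DeformRing.quot_hom (HasRingHomProperty.isLocal_ringHomProperty P).respectsIso _ _ _ hsB hsC rfl
      hkC _ hq congr(CommRingCat.Hom.hom $hcomm))

theorem locallyOfFinitePresentation (hf : LocallyOfFinitePresentation f) :
    LocallyOfFinitePresentation f' := by
  refine of_ring hcX hcY w hnil (P := @LocallyOfFinitePresentation) (Q := RingHom.FinitePresentation) ?_
    (RingHom.finitePresentation_stableUnderComposition.stableUnderCompositionWithLocalizationAway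
      RingHom.finitePresentation_holdsForLocalizationAway).1 hf
  intro A B C _ _ _ _ _ _ _ _ I hI J hJ h
  have : Algebra.FinitePresentation (B ⧸ J) (C ⧸ J.map (algebraMap B C)) :=
    RingHom.finitePresentation_algebraMap.1 h
  exact RingHom.finitePresentation_algebraMap.2 (DeformRing.finitePresentation I hI J hJ)

theorem smooth (hf : Smooth f) : Smooth f' := by
  refine of_ring hcX hcY w hnil (P := @Smooth) (Q := RingHom.Smooth) ?_
    (RingHom.Smooth.stableUnderComposition.stableUnderCompositionWithLocalizationAway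
      RingHom.Smooth.holdsForLocalizationAway).1 hf
  intro A B C _ _ _ _ _ _ _ _ I hI J hJ h
  have : Algebra.Smooth (B ⧸ J) (C ⧸ J.map (algebraMap B C)) := RingHom.smooth_algebraMap.1 h
  subst hJ
  have : Module.Flat (B ⧸ I.map (algebraMap A B)) ((B ⧸ I.map (algebraMap A B)) ⊗[B] C) :=
    Module.Flat.of_linearEquiv (Algebra.TensorProduct.quotIdealMapEquivQuotTensor C
      (I.map (algebraMap A B))).toLinearEquiv.symm
  have : Module.Flat B C := LocalFlat.Fibre.flat_of_nilpotent B (M := C) I hI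
  exact RingHom.smooth_algebraMap.2 (DeformRing.smooth I hI _ rfl)

theorem etale (hf : Etale f) : Etale f' := by
  refine of_ring hcX hcY w hnil (P := @Etale) (Q := RingHom.Etale) ?_
    (RingHom.Etale.stableUnderComposition.stableUnderCompositionWithLocalizationAway
      (fun _ _ _ _ _ r _ => RingHom.etale_algebraMap.2 (.of_isLocalizationAway r))).1 hf
  intro A B C _ _ _ _ _ _ _ _ I hI J hJ h
  have he : Algebra.Etale (B ⧸ J) (C ⧸ J.map (algebraMap B C)) := RingHom.etale_algebraMap.1 h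
  subst hJ
  have : Module.Flat (B ⧸ I.map (algebraMap A B)) ((B ⧸ I.map (algebraMap A B)) ⊗[B] C) :=
    Module.Flat.of_linearEquiv (Algebra.TensorProduct.quotIdealMapEquivQuotTensor C
      (I.map (algebraMap A B))).toLinearEquiv.symm
  have : Module.Flat B C := LocalFlat.Fibre.flat_of_nilpotent B (M := C) I hI
  have : Algebra.Smooth (B ⧸ I.map (algebraMap A B))
      (C ⧸ (I.map (algebraMap A B)).map (algebraMap B C)) := inferInstance
  have hs : Algebra.Smooth B C := DeformRing.smooth I hI (I.map (algebraMap A B)) rfl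
  have : Algebra.FormallyUnramified B (C ⧸ (I.map (algebraMap A B)).map (algebraMap B C)) :=
    Algebra.FormallyUnramified.comp B (B ⧸ I.map (algebraMap A B)) _
  have hu : Algebra.FormallyUnramified B C := by
    refine ThickAlg.formallyUnramified_of_isNilpotent (I.map (algebraMap A B)) ?_
    obtain ⟨m, hm⟩ := hI
    exact ⟨m, by rw [← Ideal.map_pow, hm, Ideal.zero_eq_bot, Ideal.map_bot, Ideal.zero_eq_bot]⟩
  exact RingHom.etale_algebraMap.2 (Algebra.Etale.of_formallyUnramified_of_flat)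

end Groth.Agent.Lib.AlgSpThick.DeformScheme
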