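import Groth.Agent.Lib.Flat55.FibreTransfer
import Mathlib.AlgebraicGeometry.Morphisms.ClosedImmersion

/-!
# Local properties along thickenings with finitely presented flat total space
-/

universe u

open AlgebraicGeometry CategoryTheory Limits

namespace Groth.Agent.Lib.AlgSpThick.Fibrewise

variable {X X' Y Y' S S' : Scheme.{u}} {iX : X ⟶ X'} {iY : Y ⟶ Y'} {iS : S ⟶ S'}
  {f : X ⟶ Y} {f' : X' ⟶ Y'} {g : Y ⟶ S} {g' : Y' ⟶ S'}
  (hcX : IsPullback iX (f ≫ g) (f' ≫ g') iS) (hcY : IsPullback iY g g' iS)
  (w : iX ≫ f' = f ≫ iY) [IsClosedImmersion iS] [Surjective iS]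

/-- A point of the thickened base has residue field in the base. -/
theorem exists_fromSpecResidueField (s : S') :
    ∃ v : Spec (S'.residueField s) ⟶ S, v ≫ iS = S'.fromSpecResidueField s := by
  have := isIso_of_isClosedImmersion_of_surjective (pullback.snd iS (S'.fromSpecResidueField s))
  exact ⟨inv (pullback.snd iS (S'.fromSpecResidueField s)) ≫
    pullback.fst iS (S'.fromSpecResidueField s), by
    rw [Category.assoc, pullback.condition, IsIso.inv_hom_id_assoc]⟩

include hcX hcY w

/-- The maps of fibres of the thickened morphism are base changes of the original one. -/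
theorem pullback_fiberι {P : MorphismProperty Scheme.{u}} [P.IsStableUnderBaseChange] (hf : P f)
    (s : S') : P (pullback.snd f' (g'.fiberι s)) := by
  obtain ⟨v, hv⟩ := exists_fromSpecResidueField (iS := iS) s
  have hc : IsPullback iX f f' iY := hcX.of_bot w hcY
  obtain ⟨t, ht⟩ : ∃ t : g'.fiber s ⟶ Y, t ≫ iY = g'.fiberι s :=
    ⟨hcY.lift (g'.fiberι s) (g'.fiberToSpecResidueField s ≫ v)
      (by rw [Category.assoc, hv]; exact g'.fiber_fac s), hcY.lift_fst _ _ _⟩
  have sq := (IsPullback.of_hasPullback f t).flip.paste_vert hc.flip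
  rw [ht] at sq
  have h := P.of_isPullback (IsPullback.of_hasPullback f t) hf
  rw [← sq.flip.isoPullback_hom_snd] at h
  exact (P.cancel_left_of_respectsIso _ _).1 h

variable [LocallyOfFinitePresentation (f' ≫ g')] [LocallyOfFiniteType g'] [Flat (f' ≫ g')]

theorem flat (hf : Flat f) : Flat f' :=
  Flat55.FibreTransfer.flat f' g' rfl fun s => pullback_fiberι hcX hcY w (P := @Flat) hf s

theorem flat_stalkMap (hf : Flat f) (x : X') :
    (f'.stalkMap x).hom.Flat ∧ (g'.stalkMap (f' x)).hom.Flat :=
  Flat55.FibreTransfer.flat_stalkMap f' g' rfl x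
    (pullback_fiberι hcX hcY w (P := @Flat) hf _)

theorem smooth (hf : Smooth f) : Smooth f' :=
  Flat55.FibreTransfer.smooth f' g' rfl fun s => pullback_fiberι hcX hcY w (P := @Smooth) hf s

theorem etale (hf : Etale f) : Etale f' :=
  Flat55.FibreTransfer.etale f' g' rfl fun s => pullback_fiberι hcX hcY w (P := @Etale) hf s

end Groth.Agent.Lib.AlgSpThick.Fibrewise
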