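import Groth.Agent.Lib.AlgSpThick.Cart
import Groth.Agent.Lib.AlgSpThick.FlatAt
import Groth.Agent.Lib.AlgSpThick.DeformScheme

/-!
# Deformations of morphisms of algebraic spaces: reduction to charts
-/

universe u

open CategoryTheory CategoryTheory.Limits AlgebraicGeometry Opposite
open Groth.Agent.Lib Groth.Agent.H54

namespace Groth.Agent.Lib.AlgSpThick.Tower

open AlgSp Groth.Agent.Lib.AlgSpace

variable {S : Scheme.{u}}

/-- The pullback of a finite order thickening to an etale chart is cut out by a nilpotent ideal. -/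
theorem isNilpotent_ker {B B' : Sp S} {i : B ⟶ B'} (hfo : IsFinThickMor i) {W W' : Over S}
    {c' : (yon S).obj W' ⟶ B'} {c : (yon S).obj W ⟶ B} {iW : W ⟶ W'} (hc' : RepWith @Etale c')
    (sq : IsPullback c ((yon S).map iW) i c') : IsNilpotent iW.left.ker := by
  obtain ⟨n, hi, hn⟩ := hfo
  have hW : thick iW.left := hi.2 c' _ _ sq
  have := hW.1
  refine ⟨n + 1, Scheme.IdealSheafData.ext_of_iSup_eq_top
    (fun O : W'.left.affineOpens => O) (AlgebraicGeometry.iSup_affineOpens_eq_top W'.left) fun O => ?_⟩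
  let OS : Over S := Over.mk (O.1.ι ≫ W'.hom)
  let o : OS ⟶ W' := Over.homMk O.1.ι rfl
  let PS : Over S := Over.mk ((iW.left ⁻¹ᵁ O.1).ι ≫ W.hom)
  let p : PS ⟶ W := Over.homMk (iW.left ⁻¹ᵁ O.1).ι rfl
  let r : PS ⟶ OS := Over.homMk (iW.left ∣_ O.1) (by
    change _ ≫ O.1.ι ≫ W'.hom = _ ≫ W.hom
    rw [← Category.assoc, morphismRestrict_ι, Category.assoc, Over.w iW])
  have sqr : IsPullback p r iW o :=
    IsPullback.of_map_of_faithful (Over.forget S) (isPullback_morphismRestrict iW.left O.1).flip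
  have : IsAffine OS.left := O.2
  have hk := hn ((yon S).map o ≫ c') ((yon S).map p ≫ c) r O.2
    (repWith_yon_map_comp (inferInstanceAs (Etale O.1.ι)) hc')
    ((isPullback_yon sqr).paste_horiz sq)
  have : IsClosedImmersion r.left := inferInstanceAs (IsClosedImmersion (iW.left ∣_ O.1))
  have h0 : RingHom.ker (r.left.app ⊤).hom ^ (n + 1) = ⊥ := by
    have := congrArg (fun I : OS.left.IdealSheafData => I.ideal ⟨⊤, isAffineOpen_top _⟩) hk
    simpa using this
  have h1 : (RingHom.ker ((iW.left ∣_ O.1).app ⊤).hom) ^ (n + 1) = ⊥ := h0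
  rw [morphismRestrict_app] at h1
  have hh : ∀ {A B C : CommRingCat.{u}} (φ : A ⟶ B) (ψ : B ⟶ C) [IsIso ψ],
      RingHom.ker (φ ≫ ψ).hom ^ (n + 1) = ⊥ → RingHom.ker φ.hom ^ (n + 1) = ⊥ := by
    intro A B C φ ψ _ h
    rwa [CommRingCat.hom_comp, RingHom.ker_comp_of_injective _
      (ConcreteCategory.bijective_of_isIso ψ).1] at h
  have h2 := @hh _ _ _ _ _ (Functor.map_isIso _ _) h1
  have : ∀ V : W'.left.Opens, V = O.1 → RingHom.ker (iW.left.app V).hom ^ (n + 1) = ⊥ →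
      RingHom.ker (iW.left.app O.1).hom ^ (n + 1) = ⊥ := by
    rintro V rfl h; exact h
  simpa using this _ (Scheme.Opens.ι_image_top O.1) h2

/-- Compatible charts of a morphism over a thickening. -/
structure Data₀ {X X' Y Y' B B' : Sp S} (iX : X ⟶ X') (iY : Y ⟶ Y') (iB : B ⟶ B')
    (f : X ⟶ Y) (f' : X' ⟶ Y') (g : Y ⟶ B) (g' : Y' ⟶ B') where
  U : Over S
  U' : Over S
  V : Over S
  V' : Over S
  W : Over S
  W' : Over S
  a : (yon S).obj U ⟶ X
  a' : (yon S).obj U' ⟶ X'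
  b : (yon S).obj V ⟶ Y
  b' : (yon S).obj V' ⟶ Y'
  c : (yon S).obj W ⟶ B
  c' : (yon S).obj W' ⟶ B'
  hf : U ⟶ V
  hf' : U' ⟶ V'
  hg : V ⟶ W
  hg' : V' ⟶ W'
  iU : U ⟶ U'
  iV : V ⟶ V'
  iW : W ⟶ W'
  ha : RepWith @Etale a
  has : RepWith @Surjective a
  ha' : RepWith @Etale a'
  has' : RepWith @Surjective a'
  hb : RepWith @Etale b
  hb' : RepWith @Etale b'
  hc' : RepWith @Etale c'
  w : a ≫ f = (yon S).map hf ≫ b
  w' : a' ≫ f' = (yon S).map hf' ≫ b'
  w'' : b' ≫ g' = (yon S).map hg' ≫ c'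
  sqX : IsPullback iU.left (hf.left ≫ hg.left) (hf'.left ≫ hg'.left) iW.left
  sqY : IsPullback iV.left hg.left hg'.left iW.left
  comm : iU.left ≫ hf'.left = hf.left ≫ iV.left
  closed : IsClosedImmersion iW.left
  surj : Surjective iW.left
  sqc : IsPullback c ((yon S).map iW) iB c'

/-- Compatible charts of a morphism over a finite order thickening. -/
structure Data {X X' Y Y' B B' : Sp S} (iX : X ⟶ X') (iY : Y ⟶ Y') (iB : B ⟶ B')
    (f : X ⟶ Y) (f' : X' ⟶ Y') (g : Y ⟶ B) (g' : Y' ⟶ B') extends Data₀ iX iY iB f f' g g' where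
  nil : IsNilpotent iW.left.ker

variable {X X' Y Y' B B' : Sp S} {iX : X ⟶ X'} {iY : Y ⟶ Y'} {iB : B ⟶ B'}
  {f : X ⟶ Y} {f' : X' ⟶ Y'} {g : Y ⟶ B} {g' : Y' ⟶ B'}

theorem isPullback_top (hcX : IsPullback iX (f ≫ g) (f' ≫ g') iB)
    (hcY : IsPullback iY g g' iB) (w : iX ≫ f' = f ≫ iY) : IsPullback iX f f' iY :=
  hcX.of_bot w hcY

theorem exists_lift_chart {X X' Y Y' : Sp S} {i : X ⟶ X'} {j : Y ⟶ Y'} {f : X ⟶ Y} {f' : X' ⟶ Y'}
    (hcart : IsPullback i f f' j) {U' V V' : Over S} {a' : (yon S).obj U' ⟶ X'}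
    {b : (yon S).obj V ⟶ Y} {b' : (yon S).obj V' ⟶ Y'} {h' : U' ⟶ V'} {jV : V ⟶ V'}
    (sqV : IsPullback b ((yon S).map jV) j b') (w' : a' ≫ f' = (yon S).map h' ≫ b') :
    ∃ a : (yon S).obj (pullback h' jV) ⟶ X, a ≫ f = (yon S).map (pullback.snd h' jV) ≫ b ∧
      IsPullback a ((yon S).map (pullback.fst h' jV)) i a' := by
  have sqU := IsPullback.of_hasPullback h' jV
  have wU : ((yon S).map (pullback.fst h' jV) ≫ a') ≫ f' =
      ((yon S).map (pullback.snd h' jV) ≫ b) ≫ j := by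
    rw [Category.assoc, Category.assoc, w', sqV.w, ← Functor.map_comp_assoc, sqU.w,
      Functor.map_comp_assoc]
  obtain ⟨a, ha₁, ha₂⟩ : ∃ a, a ≫ i = (yon S).map (pullback.fst h' jV) ≫ a' ∧
      a ≫ f = (yon S).map (pullback.snd h' jV) ≫ b :=
    ⟨hcart.lift _ _ wU, hcart.lift_fst _ _ _, hcart.lift_snd _ _ _⟩
  have big : IsPullback ((yon S).map (pullback.fst h' jV)) (a ≫ f) (a' ≫ f') j := by
    rw [ha₂, w']
    exact (isPullback_yon sqU).paste_vert sqV.flip
  exact ⟨a, ha₂, (IsPullback.of_bot big ha₁.symm hcart).flip⟩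

theorem exists_data₀ (hX' : IsAlgSpace X') (hY' : IsAlgSpace Y') (hB' : IsAlgSpace B')
    (hcX : IsPullback iX (f ≫ g) (f' ≫ g') iB) (hcY : IsPullback iY g g' iB)
    (w : iX ≫ f' = f ≫ iY) (hiB : IsThickMor iB) : Nonempty (Data₀ iX iY iB f f' g g') := by
  obtain ⟨W', c', hc', hc's⟩ := hB'.atlas
  obtain ⟨V', b', hg', hb', hb's, w''⟩ := AlgSpMor.LocP.exists_chart_over hY' hB' g' hc' hc's
  obtain ⟨U', a', hf', ha', ha's, w'⟩ := AlgSpMor.LocP.exists_chart_over hX' hY' f' hb' hb's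
  have sqW := hiB.1.isPullback c'
  have hthick : thick (hiB.1.snd c').left := hiB.2 c' _ _ sqW
  let iW := hiB.1.snd c'
  let iV := pullback.fst hg' iW
  have sqY := IsPullback.of_hasPullback hg' iW
  obtain ⟨b, -, sqb⟩ := exists_lift_chart hcY sqW w''
  have sqU := IsPullback.of_hasPullback hf' iV
  obtain ⟨a, ha₂, sqa⟩ := exists_lift_chart (isPullback_top hcX hcY w) sqb w'
  exact ⟨{ U := pullback hf' iV, U' := U', V := pullback hg' iW, V' := V', W := hiB.1.pullback c', W' := W', a := a, a' := a', b := b, b' := b', c := hiB.1.fst c', c' := c', hf := pullback.snd hf' iV, hf' := hf', hg := pullback.snd hg' iW, hg' := hg', iU := pullback.fst hf' iV, iV := iV, iW := iW, ha := repWith_baseChange sqa.flip ha', has := repWith_baseChange sqa.flip ha's, ha' := ha', has' := ha's, hb := repWith_baseChange sqb.flip hb', hb' := hb', hc' := hc', w := ha₂, w' := w', w'' := w'', sqX := (sqU.map (Over.forget S)).paste_vert (sqY.map (Over.forget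 S)), sqY := sqY.map (Over.forget S), comm := congrArg (fun m => m.left) sqU.w, closed := hthick.1, surj := hthick.2, sqc := sqW }⟩

theorem exists_data (hX' : IsAlgSpace X') (hY' : IsAlgSpace Y') (hB' : IsAlgSpace B')
    (hcX : IsPullback iX (f ≫ g) (f' ≫ g') iB) (hcY : IsPullback iY g g' iB)
    (w : iX ≫ f' = f ≫ iY) (hfo : IsFinThickMor iB) : Nonempty (Data iX iY iB f f' g g') := by
  obtain ⟨D⟩ := exists_data₀ hX' hY' hB' hcX hcY w hfo.choose_spec.1
  exact ⟨{ D with nil := isNilpotent_ker hfo D.hc' D.sqc }⟩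

end Groth.Agent.Lib.AlgSpThick.Tower
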